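import Groth.Agent.CMSeqLib.Basic
import Groth.Agent.S11650
import Groth.Agent.S5765

/-!
Localisation of Cohen–Macaulay modules.
-/

universe u

set_option backward.isDefEq.respectTransparency false

namespace Groth.Agent.CMSeqLib

open IsLocalRing

variable {A : Type u} [CommRing A] [IsLocalRing A] [IsNoetherianRing A]
  {M : Type u} [AddCommGroup M] [Module A M] [Module.Finite A M]

theorem depth_localizedModule_maximal :
    LocCoh.depth (Localization.AtPrime (maximalIdeal A))
      (LocalizedModule (maximalIdeal A).primeCompl M) = LocCoh.depth A M := by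
  haveI : IsLocalHom (algebraMap A (Localization.AtPrime (maximalIdeal A))) := by
    refine ((local_hom_TFAE _).out 0 2).mpr ?_
    rw [Localization.AtPrime.map_eq_maximalIdeal]
  haveI : Module.Flat A (Localization.AtPrime (maximalIdeal A)) :=
    IsLocalization.flat _ (maximalIdeal A).primeCompl
  haveI : Module.FaithfullyFlat A (Localization.AtPrime (maximalIdeal A)) :=
    Module.FaithfullyFlat.of_flat_of_isLocalHom
  rw [LocCoh.depth, ← Localization.AtPrime.map_eq_maximalIdeal]
  exact Depth.idealDepth_baseChange _ _
    (IsLocalizedModule.isBaseChange (maximalIdeal A).primeCompl (Localization.AtPrime (maximalIdeal A))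
      (LocalizedModule.mkLinearMap (maximalIdeal A).primeCompl M))

theorem localized_cm (hM : LocCoh.IsCohenMacaulayModule A M) (p : PrimeSpectrum A)
    (hp : p ∈ Module.support A M) :
    LocCoh.IsCohenMacaulayModule (Localization.AtPrime p.asIdeal)
        (LocalizedModule p.asIdeal.primeCompl M) ∧
      Module.supportDim A M =
        Module.supportDim A (M ⧸ (p.asIdeal • (⊤ : Submodule A M))) +
          Module.supportDim (Localization.AtPrime p.asIdeal) (LocalizedModule p.asIdeal.primeCompl M) := by
  haveI := nontrivial_of_cm hM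
  obtain ⟨P, hP⟩ := p
  set Ap := Localization.AtPrime P
  set Mp := LocalizedModule P.primeCompl M
  haveI : Nontrivial Mp := hp
  haveI : Module.Finite Ap Mp :=
    Module.Finite.of_isLocalizedModule P.primeCompl (LocalizedModule.mkLinearMap P.primeCompl M)
  haveI : Nontrivial (A ⧸ P) := Ideal.Quotient.nontrivial_iff.2 hP.ne_top
  haveI : IsLocalRing (A ⧸ P) := .of_surjective' _ Ideal.Quotient.mk_surjective
  have hq : Module.supportDim A (M ⧸ (P • (⊤ : Submodule A M))) = ringKrullDim (A ⧸ P) := by
    rw [← Module.supportDim_quotient_eq_ringKrullDim, Module.supportDim, Module.supportDim]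
    have hsupp : Module.support A (M ⧸ (P • (⊤ : Submodule A M))) = Module.support A (A ⧸ P) := by
      rw [Module.support_quotient, Module.support_eq_zeroLocus (M := A ⧸ P), Ideal.annihilator_quotient,
        Set.inter_eq_right]
      exact fun q hq => Module.mem_support_mono (p := ⟨P, hP⟩) hq hp
    rw [hsupp]
  have h11 := S11650.result A M P (maximalIdeal A) (le_maximalIdeal hP.ne_top)
  rw [depth_localizedModule_maximal,
    map_maximalIdeal_of_surjective (Ideal.Quotient.mk P) Ideal.Quotient.mk_surjective] at h11
  have h65 := S5765.result A M P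
  rw [hq] at h65 ⊢
  obtain ⟨d, hd⟩ := exists_supportDim_eq (A := A) M
  obtain ⟨e, he⟩ := exists_supportDim_eq (A := Ap) Mp
  obtain ⟨k, hk⟩ := FlatDepth.exists_depth_eq (R := Ap) (M := Mp)
  obtain ⟨j, hj⟩ := exists_supportDim_eq (A := A ⧸ P) (A ⧸ P)
  rw [Module.supportDim_self_eq_ringKrullDim] at hj
  have hle := QGorLib.depth_le_supportDim (R := Ap) Mp
  have hdep : LocCoh.depth A M = d := by
    unfold LocCoh.IsCohenMacaulayModule at hM
    rw [hd] at hM
    exact (WithBot.coe_inj.1 hM).symm
  have hht : (maximalIdeal (A ⧸ P)).height = j := by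
    have := IsLocalRing.maximalIdeal_height_eq_ringKrullDim (R := A ⧸ P)
    rw [hj] at this
    exact WithBot.coe_inj.1 this
  rw [hdep, hk, hht] at h11
  rw [he, hk] at hle
  rw [he, hj, hd] at h65
  rw [hd, hj, he]
  unfold LocCoh.IsCohenMacaulayModule
  rw [he, hk]
  norm_cast at h11 hle h65 ⊢
  omega

end Groth.Agent.CMSeqLib
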