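import Mathlib
import Groth.Agent.S2089
import Groth.Agent.FlatDepth.Basic
import Groth.Agent.QGorLib.Depth
import Groth.Agent.HSLib.Dim

/-!
Cohen–Macaulay modules and parts of systems of parameters (EGA 0_IV 16.5).
-/

universe u

set_option backward.isDefEq.respectTransparency false

namespace Groth.Agent.CMSeqLib

open IsLocalRing RingTheory.Sequence Pointwise

variable {A : Type u} [CommRing A]

section Semilocal

variable [IsNoetherianRing A] [Finite (MaximalSpectrum A)]

theorem exists_supportDim_eq_of_semilocal (M : Type u) [AddCommGroup M] [Module A M] [Module.Finite A M]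
    [Nontrivial M] : ∃ d : ℕ, Module.supportDim A M = (d : WithBot ℕ∞) := by
  obtain ⟨a, ha⟩ := WithBot.ne_bot_iff_exists.1 (Module.supportDim_ne_bot_of_nontrivial A M)
  obtain ⟨k, v, hv⟩ := Submodule.fg_iff_exists_fin_generating_family.1
    (Ring.jacobson A : Ideal A).fg_of_isNoetherianRing
  have h := HSLib.supportDim_le_of_params k M v
    (fun i => by
      show v i ∈ (Ring.jacobson A : Ideal A)
      rw [← hv]
      exact Submodule.subset_span ⟨i, rfl⟩)
    (fun p _ hle => HSLib.isMaximal_of_jacobson_le p.asIdeal (le_trans (le_of_eq hv.symm) hle))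
  rw [← ha] at h ⊢
  induction a using ENat.recTopCoe with
  | top => exact absurd (WithBot.coe_le_coe.1 h) (not_le.2 (ENat.natCast_lt_top k))
  | coe b => exact ⟨b, rfl⟩

end Semilocal

variable [IsLocalRing A] [IsNoetherianRing A] {M : Type u} [AddCommGroup M] [Module A M] [Module.Finite A M]

theorem exists_supportDim_eq (M : Type u) [AddCommGroup M] [Module A M] [Module.Finite A M]
    [Nontrivial M] : ∃ d : ℕ, Module.supportDim A M = (d : WithBot ℕ∞) := by
  obtain ⟨a, ha⟩ := WithBot.ne_bot_iff_exists.1 (Module.supportDim_ne_bot_of_nontrivial A M)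
  have h : Module.supportDim A M < ⊤ :=
    (Module.supportDim_le_ringKrullDim A M).trans_lt ringKrullDim_lt_top
  rw [← ha] at h ⊢
  induction a using ENat.recTopCoe with
  | top => exact absurd h (lt_irrefl _)
  | coe b => exact ⟨b, rfl⟩

omit [IsNoetherianRing A] [Module.Finite A M] in
theorem nontrivial_of_cm (hM : LocCoh.IsCohenMacaulayModule A M) : Nontrivial M := by
  by_contra h
  haveI := not_nontrivial_iff_subsingleton.1 h
  unfold LocCoh.IsCohenMacaulayModule at hM
  rw [Module.supportDim_eq_bot_of_subsingleton] at hM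
  exact WithBot.bot_ne_coe hM

theorem ringKrullDim_quotient_eq (hM : LocCoh.IsCohenMacaulayModule A M) {p : Ideal A}
    (hp : p ∈ associatedPrimes A M) : ringKrullDim (A ⧸ p) = Module.supportDim A M := by
  refine le_antisymm ?_ ?_
  · obtain ⟨-, f, hf⟩ := (isAssociatedPrime_iff_exists_injective_linearMap _ _).1 hp
    exact (Module.supportDim_quotient_eq_ringKrullDim p).symm.le.trans
      (Module.supportDim_le_of_injective f hf)
  · rw [hM]
    exact S2089.result p hp

theorem supportDim_quot_add_length_le (xs : List A) (hxs : ∀ x ∈ xs, x ∈ maximalIdeal A) :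
    Module.supportDim A M ≤
      Module.supportDim A (M ⧸ (Ideal.ofList xs • ⊤ : Submodule A M)) + xs.length := by
  induction xs generalizing M with
  | nil =>
    rw [Module.supportDim_eq_of_equiv
      ((Submodule.quotEquivOfEq _ _ (by simp [Ideal.ofList_nil])).trans (Submodule.quotEquivOfEqBot _ rfl) :
        (M ⧸ (Ideal.ofList ([] : List A) • ⊤ : Submodule A M)) ≃ₗ[A] M)]
    simp
  | cons x xs ih =>
    refine (Module.supportDim_le_supportDim_quotSMulTop_succ (hxs x List.mem_cons_self)).trans ?_
    rw [Module.supportDim_eq_of_equiv (Submodule.quotOfListConsSMulTopEquivQuotSMulTopInner M x xs),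
      List.length_cons, Nat.cast_add, Nat.cast_one, ← add_assoc]
    exact add_le_add_left (ih (M := QuotSMulTop x M) fun y hy => hxs y (List.mem_cons_of_mem _ hy)) 1

/-- A parameter element of a Cohen–Macaulay module is regular. -/
theorem isSMulRegular_of_supportDim_drop (hM : LocCoh.IsCohenMacaulayModule A M) {x : A}
    (h : Module.supportDim A (QuotSMulTop x M) + 1 ≤ Module.supportDim A M) : IsSMulRegular M x := by
  by_contra hx
  have hx' : x ∈ ⋃ p ∈ associatedPrimes A M, (p : Set A) := by
    rw [biUnion_associatedPrimes_eq_compl_regular A M]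
    exact hx
  simp only [Set.mem_iUnion, SetLike.mem_coe, exists_prop] at hx'
  obtain ⟨p, hp, hxp⟩ := hx'
  haveI := nontrivial_of_cm hM
  haveI : p.IsPrime := hp.isPrime
  obtain ⟨d, hd⟩ := exists_supportDim_eq (A := A) M
  have hsupp : (⟨p, ‹_›⟩ : PrimeSpectrum A) ∈ Module.support A (QuotSMulTop x M) := by
    rw [Module.support_quotSMulTop]
    refine ⟨?_, by simpa [PrimeSpectrum.mem_zeroLocus] using hxp⟩
    obtain ⟨-, f, hf⟩ := (isAssociatedPrime_iff_exists_injective_linearMap _ _).1 hp
    refine Module.support_subset_of_injective f hf ?_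
    rw [Module.support_eq_zeroLocus, Ideal.annihilator_quotient]
    exact le_refl p
  have hle : ringKrullDim (A ⧸ p) ≤ Module.supportDim A (QuotSMulTop x M) := by
    rw [← Module.supportDim_quotient_eq_ringKrullDim, Module.supportDim, Module.supportDim]
    refine Order.krullDim_le_of_strictMono (fun q => ⟨q.1, ?_⟩) fun a b hab => hab
    refine Module.mem_support_mono (?_ : (⟨p, ‹_›⟩ : PrimeSpectrum A) ≤ q.1) hsupp
    have hq := Module.mem_support_iff_of_finite.1 q.2
    rw [Ideal.annihilator_quotient] at hq
    exact hq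
  rw [ringKrullDim_quotient_eq hM hp, hd] at hle
  rw [hd] at h
  have := le_trans (add_le_add_left hle 1) h
  norm_cast at this
  omega

theorem isCohenMacaulayModule_quotSMulTop (hM : LocCoh.IsCohenMacaulayModule A M) {x : A}
    (hx : x ∈ maximalIdeal A) (hreg : IsSMulRegular M x) :
    LocCoh.IsCohenMacaulayModule A (QuotSMulTop x M) := by
  haveI := nontrivial_of_cm hM
  haveI := FlatDepth.nontrivial_quotSMulTop (M := M) hx
  have h1 := Module.supportDim_quotSMulTop_succ_eq_supportDim hreg hx
  have h2 := FlatDepth.depth_quotSMulTop (M := M) hx hreg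
  obtain ⟨a, ha⟩ := exists_supportDim_eq (A := A) (QuotSMulTop x M)
  obtain ⟨b, hb⟩ := FlatDepth.exists_depth_eq (R := A) (M := QuotSMulTop x M)
  unfold LocCoh.IsCohenMacaulayModule at hM ⊢
  rw [hM, ← h2, ha, hb] at h1
  rw [ha, hb]
  norm_cast at h1 ⊢
  omega

theorem cm_congr {N : Type u} [AddCommGroup N] [Module A N] (e : M ≃ₗ[A] N)
    (hM : LocCoh.IsCohenMacaulayModule A M) : LocCoh.IsCohenMacaulayModule A N := by
  unfold LocCoh.IsCohenMacaulayModule at hM ⊢
  rw [← Module.supportDim_eq_of_equiv e, ← Depth.depth_congr e]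
  exact hM

end Groth.Agent.CMSeqLib
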